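import Mathlib
import Cfsg.Prelude.Def_Transfer
set_option linter.all false

/-!
Finite groups in which any two abelian subgroups of equal order are conjugate ("B-groups"):
first facts.
-/

set_option autoImplicit false

namespace Cfsg.Agent.H477

open Subgroup

/-- Any two abelian subgroups of the same order are conjugate. -/
def IsB (G : Type*) [Group G] : Prop :=
  ∀ A B : Subgroup G, IsMulCommutative ↥A → IsMulCommutative ↥B → Nat.card ↥A = Nat.card ↥B →
    ∃ g : G, B = A.map (MulAut.conj g).toMonoidHom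

/-- Any two subgroups of the same order are conjugate. -/
def IsC (G : Type*) [Group G] : Prop :=
  ∀ A B : Subgroup G, Nat.card ↥A = Nat.card ↥B →
    ∃ g : G, B = A.map (MulAut.conj g).toMonoidHom

theorem IsC.isB {G : Type*} [Group G] (h : IsC G) : IsB G := fun A B _ _ hAB => h A B hAB

section
variable {G : Type*} [Group G]

theorem map_conj_le_of_normal {M : Subgroup G} [hM : M.Normal] {A : Subgroup G} (h : A ≤ M)
    (g : G) : A.map (MulAut.conj g).toMonoidHom ≤ M := by
  rintro _ ⟨a, ha, rfl⟩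
  exact hM.conj_mem a (h ha) g

theorem conj_comm_of {A B : Subgroup G} {g : G} (h : B = A.map (MulAut.conj g).toMonoidHom) :
    A = B.map (MulAut.conj g⁻¹).toMonoidHom := by
  rw [h, Subgroup.map_map]
  have : (MulAut.conj g⁻¹).toMonoidHom.comp (MulAut.conj g).toMonoidHom = MonoidHom.id G := by
    ext x; simp [mul_assoc]
  rw [this, Subgroup.map_id]

theorem conj_trans_of {A B C : Subgroup G} {g h : G}
    (h1 : B = A.map (MulAut.conj g).toMonoidHom) (h2 : C = B.map (MulAut.conj h).toMonoidHom) :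
    C = A.map (MulAut.conj (h * g)).toMonoidHom := by
  rw [h2, h1, Subgroup.map_map]
  congr 1
  ext x; simp [mul_assoc]

instance isMulCommutative_zpowers (x : G) : IsMulCommutative ↥(Subgroup.zpowers x) :=
  inferInstance

/-- In a B-group, a normal subgroup contains every element whose order occurs in it. -/
theorem IsB.mem_of_orderOf (hB : IsB G) {M : Subgroup G} [M.Normal] {a m : G} (hm : m ∈ M)
    (h : orderOf m = orderOf a) : a ∈ M := by
  obtain ⟨g, hg⟩ := hB (Subgroup.zpowers m) (Subgroup.zpowers a) inferInstance inferInstance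
    (by rw [Nat.card_zpowers, Nat.card_zpowers, h])
  have h1 : Subgroup.zpowers a ≤ M := by
    rw [hg]
    exact map_conj_le_of_normal ((Subgroup.zpowers_le).mpr hm) g
  exact h1 (Subgroup.mem_zpowers a)

theorem isMulCommutative_iff {A : Subgroup G} :
    IsMulCommutative ↥A ↔ ∀ x ∈ A, ∀ y ∈ A, x * y = y * x := by
  constructor
  · intro h x hx y hy
    have := h.is_comm.comm (⟨x, hx⟩ : A) ⟨y, hy⟩
    exact congrArg Subtype.val this
  · intro h
    exact ⟨⟨fun x y => Subtype.ext (h x x.2 y y.2)⟩⟩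

theorem isMulCommutative_mono {A B : Subgroup G} (hAB : A ≤ B) (hB : IsMulCommutative ↥B) :
    IsMulCommutative ↥A :=
  isMulCommutative_iff.mpr fun x hx y hy => isMulCommutative_iff.mp hB x (hAB hx) y (hAB hy)

/-- If a B-group has a subgroup of order `p²` and exponent `p`, then every `p`-element has order
dividing `p`. -/
theorem IsB.pow_eq_one_of_elem (hB : IsB G) {p : ℕ} (hp : p.Prime) {E : Subgroup G}
    (hEc : IsMulCommutative ↥E) (hE : Nat.card ↥E = p ^ 2) (hEp : ∀ x ∈ E, x ^ p = 1)
    {x : G} {k : ℕ} (hx : orderOf x = p ^ k) : x ^ p = 1 := by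
  rcases Nat.lt_or_ge k 2 with hk | hk
  · rw [← orderOf_dvd_iff_pow_eq_one, hx]
    interval_cases k
    · simp
    · simp
  · exfalso
    obtain ⟨j, rfl⟩ := Nat.exists_eq_add_of_le hk
    have hy : orderOf (x ^ (p ^ j)) = p ^ 2 := by
      rw [orderOf_pow_of_dvd (pow_ne_zero _ hp.ne_zero) (by rw [hx]; exact pow_dvd_pow _ (by omega)),
        hx, pow_add, Nat.mul_div_cancel _ (pow_pos hp.pos _)]
    obtain ⟨g, hg⟩ := hB E (Subgroup.zpowers (x ^ (p ^ j))) hEc inferInstance
      (by rw [hE, Nat.card_zpowers, hy])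
    have hmem : x ^ (p ^ j) ∈ E.map (MulAut.conj g).toMonoidHom := by
      rw [← hg]; exact Subgroup.mem_zpowers _
    obtain ⟨e, he, hee⟩ := hmem
    have h1 : (x ^ (p ^ j)) ^ p = 1 := by
      rw [← hee, ← map_pow, hEp e he, map_one]
    have h2 := orderOf_dvd_of_pow_eq_one h1
    rw [hy] at h2
    have h3 := Nat.le_of_dvd hp.pos h2
    have h4 := hp.two_le
    nlinarith

/-- A nontrivial group of exponent `p`, contained in the group, has an element of order `p`. -/
theorem exists_orderOf_eq_prime {p : ℕ} (hp : p.Prime) {M : Subgroup G} (hM : M ≠ ⊥)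
    (hMp : ∀ x ∈ M, x ^ p = 1) : ∃ m ∈ M, orderOf m = p := by
  obtain ⟨⟨m, hm⟩, hm1⟩ := Subgroup.ne_bot_iff_exists_ne_one.mp hM
  have hm1 : m ≠ 1 := fun h => hm1 (Subtype.ext h)
  have : Fact p.Prime := ⟨hp⟩
  exact ⟨m, hm, orderOf_eq_prime (hMp m hm) hm1⟩

/-- In a B-group a normal elementary abelian subgroup of order `p^t`, `t ≥ 2`, is the unique Sylow
`p`-subgroup. -/
theorem IsB.eq_sylow [Finite G] (hB : IsB G) {M : Subgroup G} [M.Normal] {p t : ℕ}
    [hp : Fact p.Prime] (ht : 2 ≤ t) (hM : Nat.card ↥M = p ^ t) (hMc : IsMulCommutative ↥M)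
    (hMp : ∀ x ∈ M, x ^ p = 1) (P : Sylow p G) : (P : Subgroup G) = M := by
  apply le_antisymm
  · intro x hx
    obtain ⟨k, hk⟩ := (IsPGroup.iff_orderOf.mp P.isPGroup') ⟨x, hx⟩
    rw [Subgroup.orderOf_mk] at hk
    obtain ⟨E', hE'⟩ := Sylow.exists_subgroup_card_pow_prime (G := M) p (n := 2)
      (by rw [hM]; exact pow_dvd_pow _ ht)
    have hE : Nat.card ↥(E'.map M.subtype) = p ^ 2 := by
      rw [Subgroup.card_map_of_injective M.subtype_injective, hE']
    have hEM : E'.map M.subtype ≤ M := Subgroup.map_subtype_le E'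
    have hxp := hB.pow_eq_one_of_elem hp.out (isMulCommutative_mono hEM hMc) hE
      (fun x hx => hMp x (hEM hx)) hk
    by_cases hx1 : x = 1
    · rw [hx1]; exact M.one_mem
    · have hMne : M ≠ ⊥ := by
        rintro rfl
        rw [Subgroup.card_bot] at hM
        have := Nat.one_lt_pow (by omega : t ≠ 0) hp.out.one_lt
        omega
      obtain ⟨m, hm, hmo⟩ := exists_orderOf_eq_prime hp.out hMne hMp
      exact hB.mem_of_orderOf hm (by rw [hmo, orderOf_eq_prime hxp hx1])
  · exact IsPGroup.le_sylow_of_normal (IsPGroup.of_card hM) P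

end

end Cfsg.Agent.H477
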