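import Mathlib
import Cfsg.Agent.H477.Basic
set_option linter.all false

/-!
Counting lemmas for images and preimages; conjugacy of images.
-/

set_option autoImplicit false

namespace Cfsg.Agent.H477

open Subgroup

section
variable {G G' : Type*} [Group G] [Group G']

theorem card_eq_inf_ker_mul (f : G →* G') (H : Subgroup G) :
    Nat.card ↥H = Nat.card ↥(f.ker ⊓ H) * Nat.card ↥(H.map f) := by
  rw [← relIndex_ker, ← inf_relIndex_right, ← relIndex_bot_left (f.ker ⊓ H),
    relIndex_mul_relIndex _ _ _ bot_le inf_le_right, relIndex_bot_left]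

theorem card_eq_ker_mul (f : G →* G') (H : Subgroup G) (h : f.ker ≤ H) :
    Nat.card ↥H = Nat.card ↥f.ker * Nat.card ↥(H.map f) := by
  rw [card_eq_inf_ker_mul f H, inf_of_le_left h]

theorem card_comap_of_surjective (f : G →* G') (hf : Function.Surjective f) (K : Subgroup G') :
    Nat.card ↥(K.comap f) = Nat.card ↥f.ker * Nat.card ↥K := by
  rw [card_eq_ker_mul f (K.comap f) (MonoidHom.ker_le_comap f K), Subgroup.map_comap_eq_self_of_surjective hf]

/-- Images of conjugate subgroups are conjugate. -/
theorem map_conj_map (f : G →* G') (g : G) (A : Subgroup G) :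
    (A.map (MulAut.conj g).toMonoidHom).map f = (A.map f).map (MulAut.conj (f g)).toMonoidHom := by
  rw [Subgroup.map_map, Subgroup.map_map]
  congr 1
  ext x
  simp

/-- If the preimages of two subgroups are conjugate, so are the subgroups. -/
theorem conj_of_comap (f : G →* G') (hf : Function.Surjective f) {A B : Subgroup G'}
    (h : ∃ g : G, B.comap f = (A.comap f).map (MulAut.conj g).toMonoidHom) :
    ∃ g : G', B = A.map (MulAut.conj g).toMonoidHom := by
  obtain ⟨g, hg⟩ := h
  refine ⟨f g, ?_⟩
  have := congrArg (Subgroup.map f) hg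
  rwa [map_conj_map, Subgroup.map_comap_eq_self_of_surjective hf,
    Subgroup.map_comap_eq_self_of_surjective hf] at this

/-- If the images of two subgroups containing the kernel are conjugate, so are the subgroups. -/
theorem conj_of_map (f : G →* G') (hf : Function.Surjective f) {A B : Subgroup G}
    (hA : f.ker ≤ A) (hB : f.ker ≤ B)
    (h : ∃ g : G', B.map f = (A.map f).map (MulAut.conj g).toMonoidHom) :
    ∃ g : G, B = A.map (MulAut.conj g).toMonoidHom := by
  obtain ⟨g', hg⟩ := h
  obtain ⟨g, rfl⟩ := hf g'
  refine ⟨g, ?_⟩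
  rw [← map_conj_map] at hg
  have hA' : f.ker ≤ A.map (MulAut.conj g).toMonoidHom := by
    have h1 := Subgroup.map_mono (f := (MulAut.conj g).toMonoidHom) hA
    have h2 : f.ker.map (MulAut.conj g).toMonoidHom = f.ker := Subgroup.Normal.conjAct inferInstance g
    rwa [h2] at h1
  have h3 := congrArg (Subgroup.comap f) hg
  rwa [Subgroup.comap_map_eq, Subgroup.comap_map_eq, sup_of_le_left hB, sup_of_le_left hA'] at h3

end

end Cfsg.Agent.H477
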